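import Groth.Prelude.Def_W4c6eohyperellchar2Gc
import Mathlib.Algebra.CharP.Two
import Mathlib.Tactic.Ring
import Mathlib.LinearAlgebra.LinearIndependent.Basic

/-!
# Basis formulas for the operators on the explicit characteristic two module
-/

universe u

namespace Groth.Agent.H84Dieu

open W4c6eohyperellchar2

variable (c : ℕ) (k : Type u) [Field k] [CharP k 2] [PerfectRing k 2]

omit [CharP k 2] [PerfectRing k 2] in
theorem F_X_even (i : ℕ) (h1 : 1 ≤ i) (h2 : 2 * i ≤ c) : F c k (X c k (2 * i)) = X c k i := by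
  refine Prod.ext (funext fun m => ?_) (funext fun m => ?_)
  · simp only [F, coefX, X]
    split_ifs <;> first | omega | simp
  · simp only [F, coefX, X, Pi.zero_apply]
    split_ifs <;> first | omega | simp

omit [CharP k 2] [PerfectRing k 2] in
theorem F_X_odd (i : ℕ) (h2 : 2 * i + 1 ≤ c) : F c k (X c k (2 * i + 1)) = Y c k (c - i) := by
  refine Prod.ext (funext fun m => ?_) (funext fun m => ?_)
  · simp only [F, coefX, X, Y, Pi.zero_apply]
    split_ifs <;> first | omega | simp
  · simp only [F, coefX, X, Y]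
    split_ifs <;> first | omega | simp

theorem V_Y (t : ℕ) (h1 : 1 ≤ t) (h2 : 2 * t ≤ c) : V c k (Y c k t) = Y c k (2 * t) := by
  refine Prod.ext rfl (funext fun m => ?_)
  simp only [V, coefX, coefY, Y, Pi.zero_apply]
  split_ifs <;> first | omega | simp

theorem V_X (j : ℕ) (h1 : j ≤ c) (h2 : c < 2 * j) : V c k (X c k j) = Y c k (2 * c - 2 * j + 1) := by
  refine Prod.ext rfl (funext fun m => ?_)
  simp only [V, coefX, coefY, X, Y, Pi.zero_apply]
  split_ifs <;> first | omega | simp

omit [CharP k 2] [PerfectRing k 2] in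
theorem span_X_Y (v : GcMod c k) (N : Submodule k (GcMod c k))
    (hX : ∀ i, 1 ≤ i → i ≤ c → X c k i ∈ N)
    (hY : ∀ i, 1 ≤ i → i ≤ c → Y c k i ∈ N) : v ∈ N := by
  classical
  have hv : v = (∑ j : Fin c, v.2 j • Y c k (j.val + 1)) + ∑ j : Fin c, v.1 j • X c k (j.val + 1) := by
    refine Prod.ext (funext fun m => ?_) (funext fun m => ?_) <;>
      simp [Prod.fst_sum, Prod.snd_sum, Finset.sum_apply, X, Y, Fin.val_inj]
  rw [hv]
  refine add_mem (sum_mem fun j _ => Submodule.smul_mem _ _ (hY _ (by omega) j.isLt)) (sum_mem fun j _ => ?_)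
  exact Submodule.smul_mem _ _ (hX _ (by omega) j.isLt)

theorem Y_mem_of_V (N : Submodule k (GcMod c k))
    (hVY : ∀ t, 1 ≤ t → 2 * t ≤ c → Y c k t ∈ N → V c k (Y c k t) ∈ N)
    (hVX : ∀ j, c < 2 * j → j ≤ c → V c k (X c k j) ∈ N) :
    ∀ m, 1 ≤ m → m ≤ c → Y c k m ∈ N := by
  intro m
  induction m using Nat.strong_induction_on with
  | _ m ih =>
    intro h1 h2
    obtain ⟨t, rfl | rfl⟩ : ∃ t, m = 2 * t ∨ m = 2 * t + 1 := ⟨m / 2, by omega⟩
    · rw [← V_Y c k t (by omega) h2]
      exact hVY t (by omega) h2 (ih t (by omega) (by omega) (by omega))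
    · have := hVX (c - t) (by omega) (by omega)
      rwa [V_X c k (c - t) (by omega) (by omega), show 2 * c - 2 * (c - t) + 1 = 2 * t + 1 by omega] at this

end Groth.Agent.H84Dieu
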